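import Groth.Agent.Dual.H343.Inv
import Groth.Agent.Dcoh.MonPull2_292

/-!
# The natural sequence `0 ⟶ i_* Hom(O_D, M) ⟶ M ⟶ L ⊗ M ⟶ i_* (i^* M ⊗ i^* L) ⟶ 0`

`I` a quasi-coherent ideal sheaf, `i : D ⟶ X` its closed subscheme, `L ⊗ I ≅ O_X`.
* `eta I L e : 𝟭 ⟶ tensorLeft L`;
* `S I L = i^* ⋙ (- ⊗ i^* L)`, `proj I L : tensorLeft L ⟶ S I L ⋙ i_*`;
* `mono_counit`, `counit_comp_eta`, `exact_counit_eta`, `eta_comp_proj`, `exact_eta_proj`, `epi_proj`;
* `epi_eta` (injectives), `mono_eta` (flat modules).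
-/

set_option autoImplicit false
universe v u

open CategoryTheory CategoryTheory.Limits AlgebraicGeometry Opposite MonoidalCategory
open scoped Groth.Agent.Dcoh.MonCat Groth.Agent.Dcoh.MonPull

namespace Groth.Agent.Dual.H343.EtaPack

open Groth.Agent.Dual.H343.Setup Groth.Agent.Dual.H343.Inv

section Coherence

variable {C : Type u} [Category.{v} C] [MonoidalCategory C] [BraidedCategory C]

/-- `L ⊗ (J ⊗ M) ≅ J ⊗ (L ⊗ M)`. -/
noncomputable def swapIso (L J M : C) : L ⊗ (J ⊗ M) ≅ J ⊗ (L ⊗ M) :=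
  (α_ L J M).symm ≪≫ whiskerRightIso (β_ L J) M ≪≫ α_ J L M

theorem swap_comp (L J M : C) (ι : J ⟶ 𝟙_ C) :
    (swapIso L J M).hom ≫ (ι ▷ (L ⊗ M)) ≫ (λ_ (L ⊗ M)).hom = L ◁ ((ι ▷ M) ≫ (λ_ M).hom) := by
  simp only [swapIso, Iso.trans_hom, Iso.symm_hom, whiskerRightIso_hom, Category.assoc,
    MonoidalCategory.whiskerLeft_comp]
  rw [← associator_naturality_left_assoc, ← comp_whiskerRight_assoc, ← BraidedCategory.braiding_naturality_right,
    comp_whiskerRight_assoc, leftUnitor_tensor_hom, Iso.hom_inv_id_assoc, ← comp_whiskerRight,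
    braiding_leftUnitor, ← associator_inv_naturality_middle_assoc, triangle_assoc_comp_right]

end Coherence

section Scheme

variable {X : Scheme.{u}} (I : X.IdealSheafData) (L : X.Modules)

/-- `i^* (L ⊗ M) ≅ i^* M ⊗ i^* L`, naturally in `M`. -/
noncomputable def sIso : tensorLeft L ⋙ Scheme.Modules.pullback I.subschemeι ≅
    Scheme.Modules.pullback I.subschemeι ⋙
      DCoh.tensorRightMod ((Scheme.Modules.pullback I.subschemeι).obj L) :=
  NatIso.ofComponents (fun M => (Functor.Monoidal.μIso (Scheme.Modules.pullback I.subschemeι) L M).symm ≪≫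
    β_ ((Scheme.Modules.pullback I.subschemeι).obj L) ((Scheme.Modules.pullback I.subschemeι).obj M)) (by
    intro M N f
    change (Scheme.Modules.pullback I.subschemeι).map (L ◁ f) ≫
      Functor.OplaxMonoidal.δ (Scheme.Modules.pullback I.subschemeι) L N ≫ (β_ _ _).hom =
      (Functor.OplaxMonoidal.δ (Scheme.Modules.pullback I.subschemeι) L M ≫ (β_ _ _).hom) ≫
        ((Scheme.Modules.pullback I.subschemeι).map f ▷ (Scheme.Modules.pullback I.subschemeι).obj L)
    rw [← Functor.OplaxMonoidal.δ_natural_right_assoc, Category.assoc, BraidedCategory.braiding_naturality_right])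

/-- The natural epimorphism `L ⊗ M ⟶ i_* (i^* M ⊗ i^* L)`. -/
noncomputable def proj : tensorLeft L ⟶ (Scheme.Modules.pullback I.subschemeι ⋙
      DCoh.tensorRightMod ((Scheme.Modules.pullback I.subschemeι).obj L)) ⋙
        Scheme.Modules.pushforward I.subschemeι :=
  Functor.whiskerLeft (tensorLeft L) (Scheme.Modules.pullbackPushforwardAdjunction I.subschemeι).unit ≫
    Functor.whiskerRight (sIso I L).hom (Scheme.Modules.pushforward I.subschemeι)

theorem proj_app (M : X.Modules) : (proj I L).app M =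
    (Scheme.Modules.pullbackPushforwardAdjunction I.subschemeι).unit.app (L ⊗ M) ≫
      (Scheme.Modules.pushforward I.subschemeι).map ((sIso I L).hom.app M) := rfl

instance epi_proj (M : X.Modules) : Epi ((proj I L).app M) := by
  have h1 : Epi ((Scheme.Modules.pullbackPushforwardAdjunction I.subschemeι).unit.app (L ⊗ M)) :=
    Groth.Agent.FormalB.TrKQuot.epi_kπ I (L ⊗ M)
  rw [proj_app]
  infer_instance

variable (e : L ⊗ ClSub.idealMod I ≅ 𝟙_ X.Modules)

/-- The natural map `M ⟶ L ⊗ M`. -/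
noncomputable def eta : 𝟭 X.Modules ⟶ tensorLeft L :=
  Mate.eta (tensorAdj L (ClSub.idealMod I) e) (mulNat I)

theorem eta_app (M : X.Modules) : (eta I L e).app M =
    (tensorAdj L (ClSub.idealMod I) e).unit.app M ≫ L ◁ mul I M :=
  (tensorAdj L (ClSub.idealMod I) e).homEquiv_unit _ _ _

theorem swap_mul (M : X.Modules) :
    (swapIso L (ClSub.idealMod I) M).hom ≫ mul I (L ⊗ M) = L ◁ mul I M :=
  swap_comp L (ClSub.idealMod I) M (inc I)

theorem eta_comp_proj (M : X.Modules) : (eta I L e).app M ≫ (proj I L).app M = 0 := by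
  have h1 := mul_comp_unit (I := I) (L ⊗ M)
  rw [eta_app, proj_app, ← swap_mul]
  simp only [Category.assoc]
  rw [reassoc_of% h1]
  simp

theorem eta_comp_eq_zero_iff {M B : X.Modules} (g : L ⊗ M ⟶ B) :
    (eta I L e).app M ≫ g = 0 ↔ mul I (L ⊗ M) ≫ g = 0 := by
  have : (tensorLeft (ClSub.idealMod I)).IsEquivalence := isEquivalence_left L (ClSub.idealMod I) e
  have : IsIso (tensorAdj L (ClSub.idealMod I) e).unit := inferInstance
  rw [eta_app, ← swap_mul, Category.assoc, Category.assoc]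
  constructor
  · intro h
    have h1 : (swapIso L (ClSub.idealMod I) M).hom ≫ mul I (L ⊗ M) ≫ g = 0 := by
      rw [← cancel_epi ((tensorAdj L (ClSub.idealMod I) e).unit.app M), h, comp_zero]
    rw [← cancel_epi (swapIso L (ClSub.idealMod I) M).hom, h1, comp_zero]
  · intro h
    rw [h, comp_zero, comp_zero]

theorem exists_fac_proj {M A : X.Modules} (k : L ⊗ M ⟶ A) (hk : (eta I L e).app M ≫ k = 0) :
    ∃ l : (Scheme.Modules.pushforward I.subschemeι).obj ((DCoh.tensorRightMod
      ((Scheme.Modules.pullback I.subschemeι).obj L)).obj ((Scheme.Modules.pullback I.subschemeι).obj M)) ⟶ A,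
      (proj I L).app M ≫ l = k := by
  obtain ⟨l, hl⟩ := exists_fac k ((eta_comp_eq_zero_iff I L e k).1 hk)
  refine ⟨(Scheme.Modules.pushforward I.subschemeι).map ((sIso I L).inv.app M) ≫ l, ?_⟩
  have h3 : (Scheme.Modules.pushforward I.subschemeι).map ((sIso I L).hom.app M) ≫
      (Scheme.Modules.pushforward I.subschemeι).map ((sIso I L).inv.app M) = 𝟙 _ := by
    rw [← CategoryTheory.Functor.map_comp, Iso.hom_inv_id_app, CategoryTheory.Functor.map_id]
  rw [proj_app, Category.assoc, reassoc_of% h3]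
  exact hl

/-- `M ⟶ L ⊗ M ⟶ i_* (i^* M ⊗ i^* L)` is exact. -/
theorem exact_eta_proj (M : X.Modules) :
    (ShortComplex.mk ((eta I L e).app M) ((proj I L).app M) (eta_comp_proj I L e M)).Exact := by
  apply ShortComplex.exact_of_g_is_cokernel
  refine @CokernelCofork.IsColimit.ofπ' _ _ _ _ _ _ _ _ _ (fun {A} k hk => ?_) (epi_proj I L M)
  have h := exists_fac_proj I L e k hk
  exact ⟨h.choose, h.choose_spec⟩

/-- `M ⟶ L ⊗ M` is mono for `M` flat. -/
theorem mono_eta {M : X.Modules} (hM : FlatMod.IsFlat M) : Mono ((eta I L e).app M) :=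
  have : (tensorLeft (ClSub.idealMod I)).IsEquivalence := isEquivalence_left L (ClSub.idealMod I) e
  Mate.mono_eta (tensorAdj L (ClSub.idealMod I) e) (mulNat I) M (mono_mul hM)

/-- `M ⟶ L ⊗ M` is epi for `M` injective. -/
theorem epi_eta (J : X.Modules) [Injective J] : Epi ((eta I L e).app J) :=
  Mate.epi_eta (tensorAdj L (ClSub.idealMod I) e) (mulNat I) J (exists_cover _)

include e in
/-- `L ⊗ -` is an equivalence. -/
theorem isEquivalence_tensorLeft : (tensorLeft L).IsEquivalence :=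
  isEquivalence_right L (ClSub.idealMod I) e

section Hom

variable {G : X.Modules ⥤ I.subscheme.Modules} (adj₂ : Scheme.Modules.pushforward I.subschemeι ⊣ G) [G.Additive]

/-- `i_* Hom(O_D, M) ⟶ M` is mono. -/
theorem mono_counit (M : X.Modules) : Mono (adj₂.counit.app M) :=
  Mate.mono_counit (Scheme.Modules.pullbackPushforwardAdjunction I.subschemeι) adj₂
    (fun A => Groth.Agent.FormalB.TrKQuot.epi_kπ I A) M

/-- `i_* Hom(O_D, M) ⟶ M ⟶ L ⊗ M` is zero. -/
theorem counit_comp_eta (M : X.Modules) : adj₂.counit.app M ≫ (eta I L e).app M = 0 :=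
  have : (tensorLeft L).IsEquivalence := isEquivalence_right L (ClSub.idealMod I) e
  Mate.counit_comp_eta (tensorAdj L (ClSub.idealMod I) e) (mulNat I)
    (Scheme.Modules.pullbackPushforwardAdjunction I.subschemeι) adj₂ (fun A => mul_comp_unit A) M

/-- `i_* Hom(O_D, M) ⟶ M ⟶ L ⊗ M` is exact. -/
theorem exact_counit_eta (M : X.Modules) :
    (ShortComplex.mk (adj₂.counit.app M) ((eta I L e).app M) (counit_comp_eta I L e adj₂ M)).Exact :=
  have : (tensorLeft L).IsEquivalence := isEquivalence_right L (ClSub.idealMod I) e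
  Mate.exact_counit_eta (tensorAdj L (ClSub.idealMod I) e) (mulNat I)
    (Scheme.Modules.pullbackPushforwardAdjunction I.subschemeι) adj₂ (fun _ _ g hg => exists_fac g hg) M _

end Hom

end Scheme

end Groth.Agent.Dual.H343.EtaPack
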